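import Groth.Agent.Lib.Milnor.Basic

/-!
# The module glued from a pair over a Milnor square
-/

universe u

open TensorProduct

namespace Groth.Agent.Milnor

variable {B' B A' A : Type u} [CommRing B'] [CommRing B] [CommRing A'] [CommRing A]
  [Algebra B' B] [Algebra B' A'] [Algebra B A] [Algebra A' A] [Algebra B' A]
  [IsScalarTower B' B A] [IsScalarTower B' A' A]

theorem exists_tmul_of_surjective {X Y : Type u} [CommRing X] [CommRing Y] [Algebra X Y]
    (hs : Function.Surjective (algebraMap X Y)) {M : Type u} [AddCommGroup M] [Module X M]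
    (z : Y ⊗[X] M) : ∃ m, (1 : Y) ⊗ₜ[X] m = z :=
  surjective_one_tmul hs z

variable {N M' : Type u} [AddCommGroup N] [Module B N] [Module B' N] [IsScalarTower B' B N]
  [AddCommGroup M'] [Module A' M'] [Module B' M'] [IsScalarTower B' A' M']
  {φ : A ⊗[B] N ≃ₗ[A] A ⊗[A'] M'} (hS : Sq B' B A' A)

include hS

theorem exists_mem_glue_fst (n : N) : ∃ x : EtMil.glue B' φ, (x : N × M').1 = n := by
  obtain ⟨m, hm⟩ := exists_tmul_of_surjective hS.surjR (φ ((1 : A) ⊗ₜ[B] n))
  exact ⟨⟨(n, m), hm.symm⟩, rfl⟩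

/-- `I M'` lies in the glued module, as pairs with first component zero. -/
theorem mem_glue_of_mem_smul {w : M'}
    (hw : w ∈ RingHom.ker (algebraMap A' A) • (⊤ : Submodule A' M')) :
    ((0 : N), w) ∈ EtMil.glue B' φ := by
  show φ ((1 : A) ⊗ₜ[B] (0 : N)) = (1 : A) ⊗ₜ[A'] w
  rw [tmul_zero, map_zero, eq_comm]
  induction hw using Submodule.smul_induction_on' with
  | smul i hi m _ =>
    rw [tmul_smul, smul_tmul', Algebra.smul_def, mul_one, RingHom.mem_ker.mp hi, zero_tmul]
  | add x _ y _ hx hy => rw [tmul_add, hx, hy, add_zero]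

theorem span_snd_eq_top :
    Submodule.span A' (Set.range fun x : EtMil.glue B' φ => (x : N × M').2) = ⊤ := by
  set P := Submodule.span A' (Set.range fun x : EtMil.glue B' φ => (x : N × M').2)
  have key : ∀ z : A ⊗[B] N, ∃ p ∈ P, (1 : A) ⊗ₜ[A'] p = φ z := by
    intro z
    induction z with
    | zero => exact ⟨0, P.zero_mem, by simp⟩
    | tmul a n =>
      obtain ⟨a', rfl⟩ := hS.surjR a
      obtain ⟨x, rfl⟩ := exists_mem_glue_fst (φ := φ) hS n
      refine ⟨a' • (x : N × M').2, P.smul_mem _ (Submodule.subset_span ⟨x, rfl⟩), ?_⟩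
      have hx : φ ((1 : A) ⊗ₜ[B] (x : N × M').1) = (1 : A) ⊗ₜ[A'] (x : N × M').2 := x.2
      have e : (algebraMap A' A a') ⊗ₜ[B] (x : N × M').1 =
          algebraMap A' A a' • ((1 : A) ⊗ₜ[B] (x : N × M').1) := by
        rw [smul_tmul', smul_eq_mul, mul_one]
      rw [e, map_smul, hx, tmul_smul, algebraMap_smul]
    | add x y hx hy =>
      obtain ⟨p, hp, e⟩ := hx
      obtain ⟨q, hq, e'⟩ := hy
      exact ⟨p + q, P.add_mem hp hq, by rw [tmul_add, e, e', map_add]⟩
  refine eq_top_iff.mpr fun m _ => ?_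
  obtain ⟨p, hp, e⟩ := key (φ.symm ((1 : A) ⊗ₜ[A'] m))
  rw [φ.apply_symm_apply] at e
  have hmp : m - p ∈ RingHom.ker (algebraMap A' A) • (⊤ : Submodule A' M') :=
    mem_smul_top_of_tmul_eq_zero hS.surjR (by rw [tmul_sub, e, sub_self])
  have : m - p ∈ P := Submodule.subset_span ⟨⟨_, mem_glue_of_mem_smul hS hmp⟩, rfl⟩
  simpa using P.add_mem this hp

/-- Elements with zero first component lie in `J N'`. -/
theorem mem_smul_of_fst_eq_zero (x : EtMil.glue B' φ) (hx : (x : N × M').1 = 0) :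
    x ∈ RingHom.ker (algebraMap B' B) • (⊤ : Submodule B' (EtMil.glue B' φ)) := by
  let T := RingHom.ker (algebraMap B' B) • (⊤ : Submodule B' (EtMil.glue B' φ))
  suffices ∀ w ∈ RingHom.ker (algebraMap A' A) • (⊤ : Submodule A' M'),
      ∃ y ∈ T, ((y : EtMil.glue B' φ) : N × M') = (0, w) by
    obtain ⟨y, hy, e⟩ := this (x : N × M').2 (mem_smul_top_of_tmul_eq_zero hS.surjR (by
      rw [← (show φ ((1 : A) ⊗ₜ[B] (x : N × M').1) = (1 : A) ⊗ₜ[A'] (x : N × M').2 from x.2), hx,
        tmul_zero, map_zero]))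
    have hxy : x = y := Subtype.ext (by rw [e]; exact Prod.ext hx rfl)
    exact hxy ▸ hy
  have key : ∀ m : M', ∀ i ∈ RingHom.ker (algebraMap A' A),
      ∃ y ∈ T, ((y : EtMil.glue B' φ) : N × M') = (0, i • m) := by
    intro m
    have hm : m ∈ Submodule.span A' (Set.range fun x : EtMil.glue B' φ => (x : N × M').2) := by
      rw [span_snd_eq_top hS]; exact Submodule.mem_top
    induction hm using Submodule.span_induction with
    | mem m hm =>
      obtain ⟨y, rfl⟩ := hm
      intro i hi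
      obtain ⟨j, hj, rfl⟩ := hS.lift i hi
      refine ⟨j • y, Submodule.smul_mem_smul hj Submodule.mem_top, Prod.ext ?_ ?_⟩
      · show j • (y : N × M').1 = 0
        rw [← algebraMap_smul B j, hj, zero_smul]
      · show j • (y : N × M').2 = _
        rw [algebraMap_smul]
    | zero => exact fun i _ => ⟨0, zero_mem _, by simp; rfl⟩
    | add m₁ m₂ _ _ h₁ h₂ =>
      intro i hi
      obtain ⟨y₁, hy₁, e₁⟩ := h₁ i hi
      obtain ⟨y₂, hy₂, e₂⟩ := h₂ i hi
      exact ⟨y₁ + y₂, add_mem hy₁ hy₂, by rw [Submodule.coe_add, e₁, e₂, smul_add]; simp⟩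
    | smul c m _ h =>
      intro i hi
      rw [← mul_smul]
      exact h _ (Ideal.mul_mem_right _ _ hi)
  intro w hw
  induction hw using Submodule.smul_induction_on' with
  | smul i hi m _ => exact key m i hi
  | add w₁ _ w₂ _ h₁ h₂ =>
    obtain ⟨y₁, hy₁, e₁⟩ := h₁
    obtain ⟨y₂, hy₂, e₂⟩ := h₂
    exact ⟨y₁ + y₂, add_mem hy₁ hy₂, by rw [Submodule.coe_add, e₁, e₂]; simp⟩

theorem surjective_liftBaseChange_fst :
    Function.Surjective ((EtMil.glueFst B' φ).liftBaseChange B) := fun n => by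
  obtain ⟨x, hx⟩ := exists_mem_glue_fst (φ := φ) hS n
  exact ⟨1 ⊗ₜ x, by rw [LinearMap.liftBaseChange_tmul, one_smul]; exact hx⟩

theorem bijective_liftBaseChange_fst :
    Function.Bijective ((EtMil.glueFst B' φ).liftBaseChange B) := by
  refine ⟨(injective_iff_map_eq_zero _).mpr fun z hz => ?_, surjective_liftBaseChange_fst hS⟩
  obtain ⟨x, rfl⟩ := surjective_one_tmul hS.surjL z
  rw [TensorProduct.mk_apply, LinearMap.liftBaseChange_tmul, one_smul] at hz
  rw [TensorProduct.mk_apply]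
  refine Submodule.smul_induction_on (mem_smul_of_fst_eq_zero hS x hz) (fun j hj y _ => ?_)
    fun a b ha hb => by rw [tmul_add, ha, hb, add_zero]
  rw [tmul_smul, smul_tmul', Algebra.smul_def, mul_one, RingHom.mem_ker.mp hj, zero_tmul]

theorem surjective_liftBaseChange_snd :
    Function.Surjective ((EtMil.glueSnd B' φ).liftBaseChange A') := by
  refine LinearMap.range_eq_top.mp (eq_top_iff.mpr ?_)
  rw [← span_snd_eq_top (φ := φ) hS, Submodule.span_le]
  rintro _ ⟨x, rfl⟩
  exact ⟨1 ⊗ₜ x, by rw [LinearMap.liftBaseChange_tmul, one_smul]; rfl⟩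

theorem bijective_liftBaseChange_snd :
    Function.Bijective ((EtMil.glueSnd B' φ).liftBaseChange A') := by
  refine ⟨(injective_iff_map_eq_zero _).mpr fun z hz => ?_, surjective_liftBaseChange_snd hS⟩
  let p := (EtMil.glueFst B' φ).liftBaseChange B
  let eB : A ⊗[B] (B ⊗[B'] EtMil.glue B' φ) ≃ₗ[A] A ⊗[B'] EtMil.glue B' φ :=
    TensorProduct.AlgebraTensorModule.cancelBaseChange B' B A A _
  let e := LinearEquiv.ofBijective p (bijective_liftBaseChange_fst (φ := φ) hS)
  let Θ : A ⊗[B'] EtMil.glue B' φ →ₗ[A] A ⊗[A'] M' :=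
    φ.toLinearMap ∘ₗ (p.baseChange A) ∘ₗ eB.symm.toLinearMap
  have hΘinj : Function.Injective Θ := by
    intro a b h
    exact eB.symm.injective ((e.lTensor A).injective (φ.injective h))
  have hΘ : ∀ z : A' ⊗[B'] EtMil.glue B' φ,
      Θ ((IsScalarTower.toAlgHom B' A' A).toLinearMap.rTensor _ z) =
        (1 : A) ⊗ₜ[A'] (EtMil.glueSnd B' φ).liftBaseChange A' z := by
    intro z
    induction z with
    | zero => simp
    | tmul a x =>
      have hx : φ ((1 : A) ⊗ₜ[B] (x : N × M').1) = (1 : A) ⊗ₜ[A'] (x : N × M').2 := x.2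
      have e₁ : eB.symm ((algebraMap A' A a) ⊗ₜ[B'] x) =
          algebraMap A' A a ⊗ₜ[B] ((1 : B) ⊗ₜ[B'] x) :=
        TensorProduct.AlgebraTensorModule.cancelBaseChange_symm_tmul B' B A _ _
      show φ (p.baseChange A (eB.symm (algebraMap A' A a ⊗ₜ[B'] x))) = _
      rw [e₁, LinearMap.baseChange_tmul, LinearMap.liftBaseChange_tmul, one_smul,
        show algebraMap A' A a ⊗ₜ[B] (EtMil.glueFst B' φ x) =
          algebraMap A' A a • ((1 : A) ⊗ₜ[B] (x : N × M').1) by
            rw [smul_tmul', smul_eq_mul, mul_one]; rfl,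
        map_smul, hx, LinearMap.liftBaseChange_tmul, tmul_smul, algebraMap_smul]
      rfl
    | add a b ha hb => simp only [map_add, tmul_add, ha, hb]
  have h0 : (IsScalarTower.toAlgHom B' A' A).toLinearMap.rTensor _ z = 0 :=
    hΘinj (by rw [hΘ, hz, tmul_zero, map_zero])
  have hex : Function.Exact (RingHom.ker (algebraMap A' A) |>.subtype.restrictScalars B')
      (IsScalarTower.toAlgHom B' A' A).toLinearMap :=
    fun x => ⟨fun hx => ⟨⟨x, hx⟩, rfl⟩, fun ⟨y, hy⟩ => hy ▸ y.2⟩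
  obtain ⟨w, rfl⟩ := (rTensor_exact _ hex hS.surjR z).mp h0
  obtain ⟨y, hy, hzy⟩ : ∃ y : EtMil.glue B' φ, (y : N × M').1 = 0 ∧
      ((RingHom.ker (algebraMap A' A)).subtype.restrictScalars B').rTensor _ w =
        (1 : A') ⊗ₜ[B'] y := by
    clear hz h0
    induction w with
    | zero => exact ⟨0, rfl, by simp⟩
    | tmul i x =>
      obtain ⟨j, hj, hji⟩ := hS.lift i i.2
      refine ⟨j • x, ?_, ?_⟩
      · show j • (x : N × M').1 = 0
        rw [← algebraMap_smul B j, hj, zero_smul]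
      · rw [LinearMap.rTensor_tmul, tmul_smul, smul_tmul', Algebra.smul_def, mul_one, hji]
        rfl
    | add a b ha hb =>
      obtain ⟨y₁, h₁, e₁⟩ := ha
      obtain ⟨y₂, h₂, e₂⟩ := hb
      exact ⟨y₁ + y₂, by rw [Submodule.coe_add, Prod.fst_add, h₁, h₂, add_zero],
        by rw [map_add, e₁, e₂, tmul_add]⟩
  rw [hzy, LinearMap.liftBaseChange_tmul, one_smul] at hz
  rw [hzy, show y = 0 from Subtype.ext (Prod.ext hy hz), tmul_zero]

end Groth.Agent.Milnor
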