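import Groth.Agent.Lib.Milnor.Basic
import Mathlib.RingTheory.Flat.Equalizer
import Mathlib.RingTheory.Flat.Tensor
import Mathlib.LinearAlgebra.TensorProduct.Prod

/-!
# A Milnor square of algebras flat over a base
-/

universe u

open TensorProduct

namespace Groth.Agent.Milnor

theorem flat_prod {R M N : Type u} [CommRing R] [AddCommGroup M] [Module R M] [AddCommGroup N]
    [Module R N] [Module.Flat R M] [Module.Flat R N] : Module.Flat R (M × N) := by
  refine Module.Flat.iff_rTensor_injective'.mpr fun I => ?_
  let e := TensorProduct.prodRight R R I M N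
  let e' := TensorProduct.prodRight R R R M N
  have key : ∀ z, e' (I.subtype.rTensor (M × N) z) =
      (I.subtype.rTensor M (e z).1, I.subtype.rTensor N (e z).2) := by
    intro z
    induction z with
    | zero => simp only [map_zero, Prod.fst_zero, Prod.snd_zero]; rfl
    | tmul a p => simp [e, e']
    | add a b ha hb => simp only [map_add, Prod.fst_add, Prod.snd_add, ha, hb, Prod.mk_add_mk]
  intro x y hxy
  have h := congrArg e' hxy
  rw [key, key, Prod.mk.injEq] at h
  exact e.injective (Prod.ext
    (Module.Flat.rTensor_preserves_injective_linearMap _ I.subtype_injective h.1)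
    (Module.Flat.rTensor_preserves_injective_linearMap _ I.subtype_injective h.2))

variable (R B' B A' A : Type u) [CommRing R] [CommRing B'] [CommRing B] [CommRing A'] [CommRing A]
  [Algebra B' B] [Algebra B' A'] [Algebra B A] [Algebra A' A] [Algebra B' A]
  [IsScalarTower B' B A] [IsScalarTower B' A' A]
  [Algebra R B'] [Algebra R B] [Algebra R A'] [Algebra R A]
  [IsScalarTower R B' B] [IsScalarTower R B' A'] [IsScalarTower R B A] [IsScalarTower R A' A]

/-- `B' → B × A'` over the base. -/
def pairMap : B' →ₗ[R] B × A' :=
  (IsScalarTower.toAlgHom R B' B).toLinearMap.prod (IsScalarTower.toAlgHom R B' A').toLinearMap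

/-- `B × A' → A`, the difference. -/
def diffMap : B × A' →ₗ[R] A :=
  (IsScalarTower.toAlgHom R B A).toLinearMap.comp (LinearMap.fst R B A') -
    (IsScalarTower.toAlgHom R A' A).toLinearMap.comp (LinearMap.snd R B A')

variable {R B' B A' A} (hsq : EtMil.IsFibreSquare B' B A' A)

include hsq

theorem pairMap_injective : Function.Injective (pairMap R B' B A') := fun _ _ h =>
  eq_of_pair hsq (congrArg Prod.fst h) (congrArg Prod.snd h)

theorem diffMap_surjective : Function.Surjective (diffMap R B A' A) := fun z => by
  obtain ⟨c, hc⟩ := hsq.1 z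
  exact ⟨(0, -c), by simp [diffMap, hc]⟩

theorem exact_pairMap : Function.Exact (pairMap R B' B A') (diffMap R B A' A) := fun p => by
  refine ⟨fun hp => ?_, ?_⟩
  · obtain ⟨r, ⟨hr, hr'⟩, -⟩ := hsq.2 p.1 p.2 (sub_eq_zero.mp hp)
    exact ⟨r, Prod.ext hr hr'⟩
  · rintro ⟨r, rfl⟩
    refine sub_eq_zero.mpr ?_
    show algebraMap B A (algebraMap B' B r) = algebraMap A' A (algebraMap B' A' r)
    rw [← IsScalarTower.algebraMap_apply, ← IsScalarTower.algebraMap_apply]

theorem flat_corner [Module.Flat R B] [Module.Flat R A'] [Module.Flat R A] : Module.Flat R B' := by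
  refine Module.Flat.iff_rTensor_injective'.mpr fun I => ?_
  intro x y hxy
  haveI : Module.Flat R (B × A') := flat_prod
  have h1 : Function.Injective ((pairMap R B' B A').lTensor I) :=
    LinearMap.lTensor_injective_of_exact_of_flat (diffMap R B A' A) (diffMap_surjective hsq) _
      (pairMap_injective hsq) (exact_pairMap hsq) I
  refine h1 (Module.Flat.rTensor_preserves_injective_linearMap (M := B × A') I.subtype
    I.subtype_injective ?_)
  rw [← LinearMap.comp_apply, ← LinearMap.comp_apply, LinearMap.rTensor_comp_lTensor,
    ← LinearMap.lTensor_comp_rTensor, LinearMap.comp_apply, LinearMap.comp_apply, hxy]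

end Groth.Agent.Milnor
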