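import Groth.Prelude.Def_EtMil
import Mathlib.LinearAlgebra.TensorProduct.RightExactness
import Mathlib.LinearAlgebra.TensorProduct.Prod
import Mathlib.RingTheory.Ideal.Operations

/-!
# Milnor squares: basic facts

`B' → B → A`, `B' → A' → A` with `A' → A` and `B' → B` surjective; `J = ker (B' → B)`.
-/

universe u v

open TensorProduct

namespace Groth.Agent.Milnor

variable {B' B A' A : Type u} [CommRing B'] [CommRing B] [CommRing A'] [CommRing A]
  [Algebra B' B] [Algebra B' A'] [Algebra B A] [Algebra A' A] [Algebra B' A]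
  [IsScalarTower B' B A] [IsScalarTower B' A' A]

variable (B' B A' A) in
/-- A square where `J = ker (B' → B)` maps onto `ker (A' → A)`. -/
structure Sq : Prop where
  surjR : Function.Surjective (algebraMap A' A)
  surjL : Function.Surjective (algebraMap B' B)
  lift : ∀ i : A', algebraMap A' A i = 0 →
    ∃ j : B', algebraMap B' B j = 0 ∧ algebraMap B' A' j = i

theorem algebraMap_eq_zero_of (j : B') (h : algebraMap B' B j = 0) :
    algebraMap A' A (algebraMap B' A' j) = 0 := by
  rw [← IsScalarTower.algebraMap_apply, IsScalarTower.algebraMap_apply B' B A, h, map_zero]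

theorem eq_of_pair (hsq : EtMil.IsFibreSquare B' B A' A) {x y : B'}
    (h₁ : algebraMap B' B x = algebraMap B' B y) (h₂ : algebraMap B' A' x = algebraMap B' A' y) :
    x = y := by
  obtain ⟨z, -, hz⟩ := hsq.2 (algebraMap B' B x) (algebraMap B' A' x)
    (by rw [← IsScalarTower.algebraMap_apply, ← IsScalarTower.algebraMap_apply])
  exact (hz x ⟨rfl, rfl⟩).trans (hz y ⟨h₁.symm, h₂.symm⟩).symm

theorem sq_of_isFibreSquare (hsq : EtMil.IsFibreSquare B' B A' A) : Sq B' B A' A := by
  refine ⟨hsq.1, fun b => ?_, fun i hi => ?_⟩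
  · obtain ⟨a', ha'⟩ := hsq.1 (algebraMap B A b)
    obtain ⟨x, ⟨hx, -⟩, -⟩ := hsq.2 b a' ha'.symm
    exact ⟨x, hx⟩
  · obtain ⟨x, hx, -⟩ := hsq.2 0 i (by rw [map_zero, hi])
    exact ⟨x, hx⟩

/-- For `j ∈ J`, multiplication by `j` extends to a map `A' → B'` with values in `J`. -/
theorem exists_mulMap (hsq : EtMil.IsFibreSquare B' B A' A) {j : B'} (hj : algebraMap B' B j = 0) :
    ∃ μ : A' →ₗ[B'] B', (∀ a, algebraMap B' B (μ a) = 0) ∧
      (∀ a, algebraMap B' A' (μ a) = algebraMap B' A' j * a) ∧ μ 1 = j := by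
  have h : ∀ a : A', ∃ x, algebraMap B' B x = 0 ∧ algebraMap B' A' x = algebraMap B' A' j * a :=
    fun a => (sq_of_isFibreSquare hsq).lift _
      (by rw [map_mul, algebraMap_eq_zero_of (A := A) j hj, zero_mul])
  choose μ h₁ h₂ using h
  refine ⟨{ toFun := μ, map_add' := fun a b => ?_, map_smul' := fun c a => ?_ }, h₁, h₂, ?_⟩
  · refine eq_of_pair hsq ?_ ?_
    · rw [map_add, h₁, h₁, h₁, add_zero]
    · rw [map_add, h₂, h₂, h₂, mul_add]
  · refine eq_of_pair hsq ?_ ?_
    · rw [RingHom.id_apply, smul_eq_mul, map_mul, h₁, h₁, mul_zero]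
    · rw [RingHom.id_apply, smul_eq_mul, map_mul, h₂, h₂, Algebra.smul_def]; ring
  · exact eq_of_pair hsq (by rw [hj]; exact h₁ 1) ((h₂ 1).trans (mul_one _))

variable {L : Type v} [AddCommGroup L] [Module B' L]

theorem smul_eq_zero_of_tmul_eq_zero (hsq : EtMil.IsFibreSquare B' B A' A) {j : B'}
    (hj : algebraMap B' B j = 0) {l : L} (h : (1 : A') ⊗ₜ[B'] l = 0) : j • l = 0 := by
  obtain ⟨μ, -, -, hμ⟩ := exists_mulMap hsq hj
  have := congrArg (TensorProduct.lid B' L) (congrArg (μ.rTensor L) h)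
  rwa [LinearMap.rTensor_tmul, hμ, TensorProduct.lid_tmul, map_zero, map_zero] at this

theorem surjective_one_tmul (hs : Function.Surjective (algebraMap B' B)) :
    Function.Surjective (TensorProduct.mk B' B L 1) := by
  intro z
  induction z with
  | zero => exact ⟨0, map_zero _⟩
  | tmul b l =>
    obtain ⟨c, rfl⟩ := hs b
    refine ⟨c • l, ?_⟩
    rw [TensorProduct.mk_apply, tmul_smul, smul_tmul', Algebra.smul_def, mul_one]
  | add x y hx hy =>
    obtain ⟨a, rfl⟩ := hx
    obtain ⟨b, rfl⟩ := hy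
    exact ⟨a + b, map_add _ _ _⟩

theorem mem_smul_top_of_tmul_eq_zero (hs : Function.Surjective (algebraMap B' B)) {l : L}
    (h : (1 : B) ⊗ₜ[B'] l = 0) : l ∈ RingHom.ker (algebraMap B' B) • (⊤ : Submodule B' L) := by
  have h' : (Algebra.linearMap B' B).rTensor L ((1 : B') ⊗ₜ l) = 0 := by
    rw [LinearMap.rTensor_tmul, Algebra.linearMap_apply, map_one, h]
  have hex : Function.Exact (RingHom.ker (algebraMap B' B)).subtype (Algebra.linearMap B' B) :=
    fun x => ⟨fun hx => ⟨⟨x, hx⟩, rfl⟩, fun ⟨y, hy⟩ => hy ▸ y.2⟩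
  obtain ⟨z, hz⟩ := (rTensor_exact L hex hs _).mp h'
  have hz' := congrArg (TensorProduct.lid B' L) hz
  rw [TensorProduct.lid_tmul, one_smul] at hz'
  rw [← hz']
  clear hz hz' h h'
  induction z with
  | zero => simp
  | tmul a m =>
    rw [LinearMap.rTensor_tmul, TensorProduct.lid_tmul]
    exact Submodule.smul_mem_smul a.2 Submodule.mem_top
  | add x y hx hy => rw [map_add, map_add]; exact Submodule.add_mem _ hx hy

theorem subsingleton_of_pair (hsq : EtMil.IsFibreSquare B' B A' A)
    [Subsingleton (B ⊗[B'] L)] [Subsingleton (A' ⊗[B'] L)] : Subsingleton L := by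
  have h : ∀ l : L, l = 0 := fun l => by
    have hl : l ∈ RingHom.ker (algebraMap B' B) • (⊤ : Submodule B' L) :=
      mem_smul_top_of_tmul_eq_zero (sq_of_isFibreSquare hsq).surjL (Subsingleton.elim _ 0)
    exact Submodule.smul_induction_on hl
      (fun j hj n _ => smul_eq_zero_of_tmul_eq_zero hsq hj (Subsingleton.elim _ 0))
      fun x y hx hy => by rw [hx, hy, add_zero]
  exact ⟨fun a b => by rw [h a, h b]⟩

theorem exists_preimage_pair (hsq : EtMil.IsFibreSquare B' B A' A) (x : B ⊗[B'] L) (y : A' ⊗[B'] L)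
    (hxy : (IsScalarTower.toAlgHom B' B A).toLinearMap.rTensor L x =
      (IsScalarTower.toAlgHom B' A' A).toLinearMap.rTensor L y) :
    ∃ l : L, (1 : B) ⊗ₜ[B'] l = x ∧ (1 : A') ⊗ₜ[B'] l = y := by
  let a : B' →ₗ[B'] B × A' := (Algebra.linearMap B' B).prod (Algebra.linearMap B' A')
  let b : B × A' →ₗ[B'] A :=
    (IsScalarTower.toAlgHom B' B A).toLinearMap.comp (LinearMap.fst B' B A') -
      (IsScalarTower.toAlgHom B' A' A).toLinearMap.comp (LinearMap.snd B' B A')
  have hb : Function.Surjective b := fun z => by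
    obtain ⟨c, hc⟩ := hsq.1 z
    exact ⟨(0, -c), by simp [b, hc]⟩
  have hex : Function.Exact a b := fun p => by
    refine ⟨fun hp => ?_, ?_⟩
    · obtain ⟨r, ⟨hr, hr'⟩, -⟩ := hsq.2 p.1 p.2 (sub_eq_zero.mp hp)
      exact ⟨r, Prod.ext hr hr'⟩
    · rintro ⟨r, rfl⟩
      refine sub_eq_zero.mpr ?_
      show algebraMap B A (algebraMap B' B r) = algebraMap A' A (algebraMap B' A' r)
      rw [← IsScalarTower.algebraMap_apply, ← IsScalarTower.algebraMap_apply]
  set w := (LinearMap.inl B' B A').rTensor L x + (LinearMap.inr B' B A').rTensor L y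
  have hw : b.rTensor L w = 0 := by
    have e₁ : b.comp (LinearMap.inl B' B A') = (IsScalarTower.toAlgHom B' B A).toLinearMap := by
      ext z; simp [b]
    have e₂ : b.comp (LinearMap.inr B' B A') = -(IsScalarTower.toAlgHom B' A' A).toLinearMap := by
      ext z; simp [b]
    rw [map_add, ← LinearMap.rTensor_comp_apply, ← LinearMap.rTensor_comp_apply, e₁, e₂,
      LinearMap.rTensor_neg, LinearMap.neg_apply, hxy, add_neg_cancel]
  obtain ⟨z, hz⟩ := (rTensor_exact L hex hb w).mp hw
  obtain ⟨l, rfl⟩ : ∃ l : L, (1 : B') ⊗ₜ[B'] l = z :=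
    ⟨TensorProduct.lid B' L z, (TensorProduct.lid B' L).injective (by simp)⟩
  refine ⟨l, ?_, ?_⟩
  · have h := congrArg ((LinearMap.fst B' B A').rTensor L) hz
    rw [map_add, ← LinearMap.rTensor_comp_apply, ← LinearMap.rTensor_comp_apply,
      ← LinearMap.rTensor_comp_apply, LinearMap.fst_comp_inl, LinearMap.fst_comp_inr,
      LinearMap.rTensor_id, LinearMap.id_apply, LinearMap.rTensor_zero, LinearMap.zero_apply,
      add_zero, LinearMap.rTensor_tmul] at h
    simpa [a] using h
  · have h := congrArg ((LinearMap.snd B' B A').rTensor L) hz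
    rw [map_add, ← LinearMap.rTensor_comp_apply, ← LinearMap.rTensor_comp_apply,
      ← LinearMap.rTensor_comp_apply, LinearMap.snd_comp_inl, LinearMap.snd_comp_inr,
      LinearMap.rTensor_id, LinearMap.id_apply, LinearMap.rTensor_zero, LinearMap.zero_apply,
      zero_add, LinearMap.rTensor_tmul] at h
    simpa [a] using h

end Groth.Agent.Milnor
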