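import Groth.Agent.Lib.Milnor.Flat
import Groth.Agent.Lib.Glue.Finite

/-!
# Finiteness over a Milnor square
-/

universe u

open TensorProduct

namespace Groth.Agent.Milnor

variable {B' B A' A : Type u} [CommRing B'] [CommRing B] [CommRing A'] [CommRing A]
  [Algebra B' B] [Algebra B' A'] [Algebra B A] [Algebra A' A] [Algebra B' A]
  [IsScalarTower B' B A] [IsScalarTower B' A' A]

theorem surjective_of_pair (hsq : EtMil.IsFibreSquare B' B A' A) {N L : Type u} [AddCommGroup N]
    [Module B' N] [AddCommGroup L] [Module B' L] (g : N →ₗ[B'] L)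
    (hB : Function.Surjective (g.lTensor B)) (hA : Function.Surjective (g.lTensor A')) :
    Function.Surjective g := by
  have key : ∀ (X : Type u) [AddCommGroup X] [Module B' X], Function.Surjective (g.lTensor X) →
      Subsingleton (X ⊗[B'] (L ⧸ LinearMap.range g)) := by
    intro X _ _ hX
    have : ∀ z : X ⊗[B'] (L ⧸ LinearMap.range g), z = 0 := fun z => by
      obtain ⟨y, rfl⟩ := LinearMap.lTensor_surjective X (Submodule.mkQ_surjective _) z
      obtain ⟨x, rfl⟩ := hX y
      rw [← LinearMap.lTensor_comp_apply, LinearMap.range_mkQ_comp, LinearMap.lTensor_zero,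
        LinearMap.zero_apply]
    exact ⟨fun a b => by rw [this a, this b]⟩
  haveI := key B hB
  haveI := key A' hA
  haveI : Subsingleton (L ⧸ LinearMap.range g) := subsingleton_of_pair hsq
  exact fun l => (Submodule.Quotient.mk_eq_zero _).mp
    (Subsingleton.elim (Submodule.Quotient.mk (p := LinearMap.range g) l) 0)

theorem finite_of_pair (hsq : EtMil.IsFibreSquare B' B A' A) (L : Type u) [AddCommGroup L]
    [Module B' L] [Module.Finite B (B ⊗[B'] L)] [Module.Finite A' (A' ⊗[B'] L)] :
    Module.Finite B' L := by
  classical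
  obtain ⟨s, hs⟩ := Glue.exists_finset_span (R := B') (M := L) B
  obtain ⟨t, ht⟩ := Glue.exists_finset_span (R := B') (M := L) A'
  let G : Submodule B' L := Submodule.span B' ((s ∪ t : Finset L) : Set L)
  have hG := surjective_of_pair hsq G.subtype
    (hs G fun x hx => Submodule.subset_span (Finset.mem_union_left _ hx))
    (ht G fun x hx => Submodule.subset_span (Finset.mem_union_right _ hx))
  exact ⟨⟨s ∪ t, eq_top_iff.mpr fun m _ => by obtain ⟨⟨x, hx⟩, rfl⟩ := hG m; exact hx⟩⟩

theorem finite_baseChange_ker' {n : ℕ} {L : Type u} [AddCommGroup L] [Module B' L]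
    [Module.Flat B' L] (π : (Fin n → B') →ₗ[B'] L) (hπ : Function.Surjective π) (X : Type u)
    [CommRing X] [Algebra B' X] [Module.FinitePresentation X (X ⊗[B'] L)] :
    Module.Finite X (X ⊗[B'] LinearMap.ker π) := by
  have hfg : (LinearMap.ker (π.baseChange X)).FG :=
    Module.FinitePresentation.fg_ker _ (LinearMap.lTensor_surjective X hπ)
  haveI : Module.Finite X (LinearMap.ker (π.baseChange X)) := .of_fg hfg
  have hexact := lTensor_exact X (LinearMap.exact_subtype_ker_map π) hπ
  have hinj : Function.Injective ((LinearMap.ker π).subtype.baseChange X) :=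
    LinearMap.lTensor_injective_of_exact_of_flat π hπ _ Subtype.val_injective
      (LinearMap.exact_subtype_ker_map π) X
  let c : X ⊗[B'] LinearMap.ker π →ₗ[X] LinearMap.ker (π.baseChange X) :=
    ((LinearMap.ker π).subtype.baseChange X).codRestrict _ fun x => hexact.apply_apply_eq_zero x
  refine Module.Finite.equiv (LinearEquiv.ofBijective c
    ⟨fun a b hab => hinj (congrArg Subtype.val hab), fun y => ?_⟩).symm
  obtain ⟨x, hx⟩ := (hexact y.1).mp y.2
  exact ⟨x, Subtype.ext hx⟩

theorem finitePresentation_of_pair (hsq : EtMil.IsFibreSquare B' B A' A) (L : Type u)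
    [AddCommGroup L] [Module B' L] [Module.Flat B (B ⊗[B'] L)]
    [Module.FinitePresentation B (B ⊗[B'] L)] [Module.Flat A' (A' ⊗[B'] L)]
    [Module.FinitePresentation A' (A' ⊗[B'] L)] : Module.FinitePresentation B' L := by
  haveI : Module.Flat B' L := flat_of_pair hsq
  haveI := finite_of_pair hsq L
  obtain ⟨n, π, hπ⟩ := Module.Finite.exists_fin' B' L
  haveI := finite_baseChange_ker' π hπ B
  haveI := finite_baseChange_ker' π hπ A'
  haveI := finite_of_pair hsq (LinearMap.ker π)
  exact Module.finitePresentation_of_surjective π hπ (Module.Finite.iff_fg.mp inferInstance)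

theorem projective_of_pair (hsq : EtMil.IsFibreSquare B' B A' A) (L : Type u)
    [AddCommGroup L] [Module B' L] [Module.Finite B (B ⊗[B'] L)] [Module.Projective B (B ⊗[B'] L)]
    [Module.Finite A' (A' ⊗[B'] L)] [Module.Projective A' (A' ⊗[B'] L)] :
    Module.Finite B' L ∧ Module.Projective B' L := by
  haveI := Module.finitePresentation_of_projective B (B ⊗[B'] L)
  haveI := Module.finitePresentation_of_projective A' (A' ⊗[B'] L)
  haveI := finitePresentation_of_pair hsq L
  haveI : Module.Flat B' L := flat_of_pair hsq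
  exact ⟨inferInstance, Module.Flat.projective_of_finitePresentation⟩

end Groth.Agent.Milnor
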