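import Groth.Agent.Lib.Milnor.Basic
import Mathlib.RingTheory.Flat.Tensor
import Mathlib.RingTheory.Flat.Stability

/-!
# Flatness over a Milnor square
-/

universe u

open TensorProduct

namespace Groth.Agent.Milnor

section Killed

variable {B' B : Type u} [CommRing B'] [CommRing B] [Algebra B' B]
  {L : Type u} [AddCommGroup L] [Module B' L]

theorem bijective_one_tmul_of_killed (hs : Function.Surjective (algebraMap B' B)) {U : Type u}
    [AddCommGroup U] [Module B' U] (hU : ∀ j, algebraMap B' B j = 0 → ∀ u : U, j • u = 0) :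
    Function.Bijective (TensorProduct.mk B' B U 1) :=
  ⟨(injective_iff_map_eq_zero _).mpr fun u hu =>
    Submodule.smul_induction_on (mem_smul_top_of_tmul_eq_zero hs hu) (fun j hj n _ => hU j hj n)
      fun x y hx hy => by rw [hx, hy, add_zero], surjective_one_tmul hs⟩

theorem rTensor_injective_of_killed (hs : Function.Surjective (algebraMap B' B))
    [Module.Flat B (B ⊗[B'] L)] {U V : Type u} [AddCommGroup U] [Module B' U] [AddCommGroup V]
    [Module B' V] (g : U →ₗ[B'] V) (hg : Function.Injective g)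
    (hV : ∀ j, algebraMap B' B j = 0 → ∀ v : V, j • v = 0) : Function.Injective (g.rTensor L) := by
  have hU : ∀ j, algebraMap B' B j = 0 → ∀ u : U, j • u = 0 := fun j hj u =>
    hg (by rw [map_smul, hV j hj, map_zero])
  have hgS : Function.Injective (g.baseChange B) := by
    refine (injective_iff_map_eq_zero _).mpr fun x hx => ?_
    obtain ⟨u, rfl⟩ := surjective_one_tmul hs x
    rw [TensorProduct.mk_apply, LinearMap.baseChange_tmul] at hx
    have h0 : g u = 0 := (bijective_one_tmul_of_killed hs hV).1 (hx.trans (map_zero _).symm)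
    rw [hg (h0.trans (map_zero g).symm), map_zero]
  have h1 := Module.Flat.rTensor_preserves_injective_linearMap (M := B ⊗[B'] L) _ hgS
  let eU := TensorProduct.AlgebraTensorModule.distribBaseChange B' B U L
  let eV := TensorProduct.AlgebraTensorModule.distribBaseChange B' B V L
  have hcomm : ∀ z : B ⊗[B'] (U ⊗[B'] L),
      eV ((g.rTensor L).lTensor B z) = (g.baseChange B).rTensor (B ⊗[B'] L) (eU z) := by
    intro z
    induction z with
    | zero => simp
    | add a b ha hb => simp only [map_add, ha, hb]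
    | tmul s x =>
      induction x with
      | zero => simp
      | add a b ha hb => simp only [tmul_add, map_add, ha, hb]
      | tmul a b => simp [eU, eV, TensorProduct.AlgebraTensorModule.distribBaseChange]
  have hUL : ∀ j, algebraMap B' B j = 0 → ∀ z : U ⊗[B'] L, j • z = 0 := fun j hj z => by
    induction z with
    | zero => simp
    | tmul a b => rw [smul_tmul', hU j hj, zero_tmul]
    | add a b ha hb => rw [smul_add, ha, hb, add_zero]
  refine (injective_iff_map_eq_zero _).mpr fun z hz => ?_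
  refine (bijective_one_tmul_of_killed hs hUL).1 (eU.injective (h1 ?_))
  rw [map_zero, map_zero, map_zero, TensorProduct.mk_apply, ← hcomm, LinearMap.lTensor_tmul, hz,
    tmul_zero, map_zero]

/-- A module isomorphic to an ideal of `A'` tensors injectively into `A' ⊗ L` when that is flat. -/
theorem rTensor_injective_of_ideal {A' : Type u} [CommRing A'] [Algebra B' A']
    [Module.Flat A' (A' ⊗[B'] L)] {M : Type u} [AddCommGroup M] [Module B' M]
    (u : M →ₗ[B'] A') (hu : Function.Injective u) (hA : ∀ (a : A') (m : M), ∃ m', u m' = a * u m) :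
    Function.Injective (u.rTensor L) := by
  let W : Ideal A' :=
    { carrier := Set.range u
      add_mem' := fun {a b} ⟨x, hx⟩ ⟨y, hy⟩ => ⟨x + y, by rw [map_add, hx, hy]⟩
      zero_mem' := ⟨0, map_zero u⟩
      smul_mem' := fun a _ ⟨x, hx⟩ => by
        obtain ⟨m', hm'⟩ := hA a x
        exact ⟨m', by rw [hm', hx, smul_eq_mul]⟩ }
  let u₀ : M →ₗ[B'] W :=
    { toFun := fun m => ⟨u m, m, rfl⟩
      map_add' := fun a b => Subtype.ext (map_add u a b)
      map_smul' := fun c a => Subtype.ext (map_smul u c a) }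
  have hu₀ : Function.Bijective u₀ :=
    ⟨fun a b h => hu (congrArg Subtype.val h), fun ⟨w, m, hm⟩ => ⟨m, Subtype.ext hm⟩⟩
  have h₀ : Function.Injective (u₀.rTensor L) :=
    (LinearEquiv.ofBijective u₀ hu₀).rTensor L |>.injective
  have h₁ : Function.Injective ((W.subtype.restrictScalars B').rTensor L) := by
    let eW := TensorProduct.AlgebraTensorModule.cancelBaseChange B' A' A' W L
    let eA := TensorProduct.AlgebraTensorModule.cancelBaseChange B' A' A' A' L
    have h := Module.Flat.rTensor_preserves_injective_linearMap (M := A' ⊗[B'] L)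
      W.subtype W.subtype_injective
    have hcomm : ∀ z, eA.symm ((W.subtype.restrictScalars B').rTensor L z) =
        W.subtype.rTensor (A' ⊗[B'] L) (eW.symm z) := by
      intro z
      induction z with
      | zero => simp
      | tmul a b => simp [eA, eW]
      | add a b ha hb => simp only [map_add, ha, hb]
    intro x y hxy
    refine eW.symm.injective (h ?_)
    rw [← hcomm, ← hcomm, hxy]
  have : u = (W.subtype.restrictScalars B').comp u₀ := rfl
  rw [this, LinearMap.rTensor_comp]
  exact h₁.comp h₀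

end Killed

variable {B' B A' A : Type u} [CommRing B'] [CommRing B] [CommRing A'] [CommRing A]
  [Algebra B' B] [Algebra B' A'] [Algebra B A] [Algebra A' A] [Algebra B' A]
  [IsScalarTower B' B A] [IsScalarTower B' A' A]
  {L : Type u} [AddCommGroup L] [Module B' L]

/-- An `A'`-stable submodule of `J` tensors injectively into `A' ⊗ L`. -/
theorem rTensor_injective_of_le_ker (hsq : EtMil.IsFibreSquare B' B A' A)
    [Module.Flat A' (A' ⊗[B'] L)] (V : Ideal B') (hV : ∀ v ∈ V, algebraMap B' B v = 0)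
    (hA : ∀ (a : A') (v : B'), v ∈ V →
      ∃ w ∈ V, algebraMap B' A' w = a * algebraMap B' A' v) :
    Function.Injective (((Algebra.linearMap B' A').comp V.subtype).rTensor L) := by
  refine rTensor_injective_of_ideal _ (fun x y h => Subtype.ext ?_) fun a v => ?_
  · exact eq_of_pair hsq (by rw [hV _ x.2, hV _ y.2]) h
  · obtain ⟨w, hw, e⟩ := hA a v v.2
    exact ⟨⟨w, hw⟩, e⟩

theorem flat_of_pair (hsq : EtMil.IsFibreSquare B' B A' A)
    [Module.Flat B (B ⊗[B'] L)] [Module.Flat A' (A' ⊗[B'] L)] : Module.Flat B' L := by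
  have hS := sq_of_isFibreSquare hsq
  refine Module.Flat.iff_rTensor_injective'.mpr fun 𝔞 =>
    (injective_iff_map_eq_zero _).mpr fun x hx => ?_
  let J : Ideal B' := RingHom.ker (algebraMap B' B)
  let 𝔟 : Ideal B' := 𝔞 ⊓ J
  let K : Ideal B' := J * 𝔞
  have hK𝔟 : K ≤ 𝔟 := le_inf Ideal.mul_le_right Ideal.mul_le_left
  -- step 1: `x` comes from `𝔟`
  obtain ⟨y, rfl⟩ : ∃ y, (Submodule.inclusion (inf_le_left : 𝔟 ≤ 𝔞)).rTensor L y = x := by
    let p : 𝔞 →ₗ[B'] B := (Algebra.linearMap B' B).comp 𝔞.subtype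
    let q := p.rangeRestrict
    have hq : Function.Exact (Submodule.inclusion (inf_le_left : 𝔟 ≤ 𝔞)) q := fun a => by
      refine ⟨fun ha => ⟨⟨a, a.2, congrArg Subtype.val ha⟩, rfl⟩, ?_⟩
      rintro ⟨b, rfl⟩
      exact Subtype.ext b.2.2
    refine (rTensor_exact L hq p.surjective_rangeRestrict x).mp ?_
    refine rTensor_injective_of_killed hS.surjL (LinearMap.range p).subtype
      Subtype.val_injective (fun j hj v => by rw [Algebra.smul_def, hj, zero_mul]) ?_
    rw [map_zero, ← LinearMap.rTensor_comp_apply,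
      show (LinearMap.range p).subtype.comp q = (Algebra.linearMap B' B).comp 𝔞.subtype from rfl,
      LinearMap.rTensor_comp_apply, hx, map_zero]
  -- `V`: the `A'`-stable hull of `𝔟` inside `J`
  let W : Ideal A' := Ideal.map (algebraMap B' A') 𝔟
  let V : Ideal B' := J ⊓ W.comap (algebraMap B' A')
  have h𝔟V : 𝔟 ≤ V := fun b hb => ⟨hb.2, Ideal.mem_map_of_mem _ hb⟩
  have hVA : ∀ (a : A') (v : B'), v ∈ V → ∃ w ∈ V, algebraMap B' A' w = a * algebraMap B' A' v := by
    intro a v hv
    obtain ⟨w, hw, hw'⟩ := hS.lift (a * algebraMap B' A' v)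
      (by rw [map_mul, algebraMap_eq_zero_of (A := A) v hv.1, mul_zero])
    exact ⟨w, ⟨hw, by show algebraMap B' A' w ∈ W; rw [hw']; exact Ideal.mul_mem_left _ _ hv.2⟩, hw'⟩
  have hJW : ∀ z ∈ W, ∀ j ∈ J, ∃ k ∈ K, algebraMap B' A' k = algebraMap B' A' j * z := by
    intro z hz
    induction hz using Submodule.span_induction with
    | mem z hz =>
      obtain ⟨b, hb, rfl⟩ := hz
      exact fun j hj => ⟨j * b, Ideal.mul_mem_mul hj hb.1, map_mul _ _ _⟩
    | zero => exact fun j _ => ⟨0, K.zero_mem, by simp⟩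
    | add z₁ z₂ _ _ h₁ h₂ =>
      intro j hj
      obtain ⟨k₁, hk₁, e₁⟩ := h₁ j hj
      obtain ⟨k₂, hk₂, e₂⟩ := h₂ j hj
      exact ⟨k₁ + k₂, K.add_mem hk₁ hk₂, by rw [map_add, e₁, e₂, mul_add]⟩
    | smul c z _ h =>
      intro j hj
      obtain ⟨μ, hμ₁, hμ₂, -⟩ := exists_mulMap hsq hj
      obtain ⟨k, hk, e⟩ := h (μ c) (hμ₁ c)
      exact ⟨k, hk, by rw [e, hμ₂, smul_eq_mul, mul_assoc]⟩
  have hJV : ∀ j ∈ J, ∀ v ∈ V, j * v ∈ K := by
    intro j hj v hv
    obtain ⟨k, hk, e⟩ := hJW _ hv.2 j hj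
    rw [show j * v = k from eq_of_pair hsq
      (by rw [map_mul, hj, zero_mul]; exact ((hK𝔟 hk).2).symm) (by rw [map_mul, e])]
    exact hk
  have hKA : ∀ (a : A') (k : B'), k ∈ K → ∃ k' ∈ K, algebraMap B' A' k' = a * algebraMap B' A' k := by
    intro a k hk
    induction hk using Submodule.mul_induction_on' with
    | mem_mul_mem j hj b hb =>
      obtain ⟨μ, hμ₁, hμ₂, -⟩ := exists_mulMap hsq (j := j) hj
      exact ⟨μ a * b, Ideal.mul_mem_mul (hμ₁ a) hb, by rw [map_mul, hμ₂, map_mul]; ring⟩
    | add k₁ _ k₂ _ h₁ h₂ =>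
      obtain ⟨w₁, hw₁, e₁⟩ := h₁
      obtain ⟨w₂, hw₂, e₂⟩ := h₂
      exact ⟨w₁ + w₂, K.add_mem hw₁ hw₂, by rw [map_add, e₁, e₂, map_add, mul_add]⟩
  let jV : 𝔟 →ₗ[B'] V := Submodule.inclusion h𝔟V
  have hyV : jV.rTensor L y = 0 := by
    refine rTensor_injective_of_le_ker hsq V (fun v hv => hv.1) hVA ?_
    rw [map_zero, ← LinearMap.rTensor_comp_apply,
      show ((Algebra.linearMap B' A').comp V.subtype).comp jV =
        ((Algebra.linearMap B' A').comp 𝔞.subtype).comp
          (Submodule.inclusion (inf_le_left : 𝔟 ≤ 𝔞)) from rfl,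
      LinearMap.rTensor_comp_apply, LinearMap.rTensor_comp_apply, hx, map_zero]
  -- step 2: modulo `K`
  let Kb : Submodule B' 𝔟 := Submodule.comap 𝔟.subtype K
  let Kv : Submodule B' V := Submodule.comap V.subtype K
  let g : (𝔟 ⧸ Kb) →ₗ[B'] V ⧸ Kv := Submodule.mapQ Kb Kv jV fun b hb => hb
  have hginj : Function.Injective g := (injective_iff_map_eq_zero g).mpr fun q hq => by
    obtain ⟨b, rfl⟩ := Submodule.Quotient.mk_surjective _ q
    exact (Submodule.Quotient.mk_eq_zero Kb).mpr ((Submodule.Quotient.mk_eq_zero Kv).mp hq : _)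
  obtain ⟨w, hw⟩ := (rTensor_exact L (LinearMap.exact_subtype_mkQ Kb)
    (Submodule.mkQ_surjective Kb) y).mp (by
      refine rTensor_injective_of_killed hS.surjL g hginj (fun j hj q => ?_) ?_
      · obtain ⟨v, rfl⟩ := Submodule.Quotient.mk_surjective _ q
        exact (Submodule.Quotient.mk_eq_zero Kv).mpr (hJV j hj v v.2)
      · rw [map_zero, ← LinearMap.rTensor_comp_apply,
          show g.comp Kb.mkQ = Kv.mkQ.comp jV from Submodule.mapQ_mkQ _ _ _,
          LinearMap.rTensor_comp_apply, hyV, map_zero])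
  let e : Kb →ₗ[B'] K :=
    { toFun := fun b => ⟨((b : 𝔟) : B'), b.2⟩
      map_add' := fun _ _ => rfl
      map_smul' := fun _ _ => rfl }
  have he : Function.Bijective e :=
    ⟨fun a b h => Subtype.ext (Subtype.ext (congrArg (fun k : K => (k : B')) h)),
      fun k => ⟨⟨⟨k, hK𝔟 k.2⟩, k.2⟩, rfl⟩⟩
  have hw0 : e.rTensor L w = 0 := by
    refine rTensor_injective_of_le_ker hsq K (fun k hk => (hK𝔟 hk).2) hKA ?_
    rw [map_zero, ← LinearMap.rTensor_comp_apply,
      show ((Algebra.linearMap B' A').comp K.subtype).comp e =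
        ((Algebra.linearMap B' A').comp V.subtype).comp (jV.comp Kb.subtype) from rfl,
      LinearMap.rTensor_comp_apply, LinearMap.rTensor_comp_apply _ jV, hw, hyV, map_zero]
  have hw1 : w = 0 := ((LinearEquiv.ofBijective e he).rTensor L).injective (hw0.trans (map_zero _).symm)
  rw [← hw, hw1, map_zero, map_zero]

end Groth.Agent.Milnor
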